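import Cfsg.Agent.H113.PSU.Chars
import Cfsg.Agent.S0822
import Cfsg.Agent.H477.HC.Rows
import Mathlib.FieldTheory.Finite.GaloisField

/-!
# `PSp_4(3) ≅ PSU_4(2)` has irreducible characters of degrees `20` and `24` (helper113)

`leftSp43` : the leftover `LeftSp43` of helper477.
-/

set_option autoImplicit false

namespace Cfsg.Agent.H113.PSU.Left43

open Cfsg Cfsg.Agent.H33 Cfsg.Agent.H113.PSU.Chars

universe u

/-- degrees `20` and `24` for `PSU_4(2)` -/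
theorem u42 {F : Type u} [Field F] [Fintype F] (hF : Fintype.card F = 2 ^ 2) :
    ∃ χ₁ χ₂ : PSU 4 F 2 → ℂ, IsIrrCharacter _ χ₁ ∧ IsIrrCharacter _ χ₂ ∧ χ₁ 1 = 20 ∧ χ₂ 1 = 24 := by
  obtain ⟨χ₁, χ₂, f, g, h1, h2, hf, hg, e1, e2⟩ := exists_chars (F := F) (q := 2) (m := 2) hF le_rfl
  norm_num at e1 e2
  have h20 : f = 20 := by omega
  have h24 : g = 24 := by omega
  subst h20
  subst h24
  exact ⟨χ₁, χ₂, h1, h2, by rw [hf]; norm_num, by rw [hg]; norm_num⟩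

/-- degrees `20` and `24` for `PSp_4(3)` -/
theorem sp43 {F : Type u} [Field F] [Fintype F] (hF : Fintype.card F = 3) :
    ∃ χ₁ χ₂ : PSp 2 F → ℂ, IsIrrCharacter _ χ₁ ∧ IsIrrCharacter _ χ₂ ∧ χ₁ 1 = 20 ∧ χ₂ 1 = 24 := by
  have : Fact (Nat.Prime 2) := ⟨Nat.prime_two⟩
  have hfin : Finite (GaloisField 2 2) := Finite.of_finite_univ (by
    have := GaloisField.card 2 2 (by norm_num)
    exact Set.finite_univ_iff.2 (Nat.finite_of_card_ne_zero (by rw [this]; norm_num)))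
  let _ : Fintype (GaloisField 2 2) := Fintype.ofFinite _
  have h4 : Fintype.card (GaloisField 2 2) = 2 ^ 2 := by
    rw [← Nat.card_eq_fintype_card, GaloisField.card 2 2 (by norm_num)]
  obtain ⟨e⟩ := Cfsg.Agent.S0822.result (F := GaloisField 2 2) (K := F) (by rw [h4]; norm_num) hF
  obtain ⟨χ₁, χ₂, h1, h2, h3, h5⟩ := u42 h4
  refine ⟨χ₁ ∘ e.symm.toMonoidHom, χ₂ ∘ e.symm.toMonoidHom,
    Cfsg.Agent.Characters.Core.isIrr_comp e.symm.toMonoidHom e.symm.surjective h1,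
    Cfsg.Agent.Characters.Core.isIrr_comp e.symm.toMonoidHom e.symm.surjective h2, ?_, ?_⟩
  · rw [← h3]; exact congrArg χ₁ (map_one e.symm)
  · rw [← h5]; exact congrArg χ₂ (map_one e.symm)

/-- **Itô-Michler for `PSp_4(3)`, `r = 2`, `5`** -/
theorem leftSp43 : Cfsg.Agent.H477.HC.LeftSp43 := by
  intro F _ _ hF r hr
  obtain ⟨χ₁, χ₂, h1, -, h3, -⟩ := sp43 hF
  refine IM.of_apply_one h1 (n := 20) (by rw [h3]; norm_num) ?_
  rcases hr with rfl | rfl <;> norm_num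

end Cfsg.Agent.H113.PSU.Left43
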