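import Cfsg.Agent.H690.Spor.RankThree

/-!
# Frame's theorem for rank 3 with known eigenvalues (helper113)

`frame_exact` : `R3 G X R k l` (helper690), `μ = b` the number of common neighbours of two points at distance 2, `r ≠ s`
integers with `r s = b - k`, `k (r + s + b) = k² - k - l b`: the permutation character is `1 + χ₁ + χ₂`, with irreducible
`χ₁`, `χ₂` of degrees `f = -(s (k + l) + k) / (r - s)`, `g = (r (k + l) + k) / (r - s)`; elements acting trivially on `X` are
in the kernel of both.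
-/

set_option autoImplicit false
set_option linter.unusedSectionVars false

namespace Cfsg.Agent.H113.PSU.Rank3

open Cfsg Cfsg.Agent.Characters.Core Cfsg.Agent.H690.Spor.RankThree Cfsg.Agent.H690.Spor.RankThree.R3
open scoped ComplexConjugate

variable {G X : Type*} [Group G] [MulAction G X] {R : X → X → Prop} {k l : ℕ}

section

variable [Fintype X] [DecidableEq X] [DecidableRel R]

/-- the parameter `b` of `exists_params` is the number of common neighbours -/
theorem params_b {a b : ℕ} (hab : ∀ x y, ∑ z, adj R x z * adj R z y =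
    (k - b : ℂ) * dia x y + (a - b : ℂ) * adj R x y + b) {x₀ y₀ : X} (hxy : x₀ ≠ y₀) (hR : ¬ R x₀ y₀) :
    com R x₀ y₀ = b := by
  have h1 := hab x₀ y₀
  rw [sum_mul] at h1
  have e1 : dia x₀ y₀ = 0 := if_neg hxy
  have e2 : adj R x₀ y₀ = 0 := if_neg hR
  rw [e1, e2, mul_zero, mul_zero, zero_add, zero_add] at h1
  exact_mod_cast h1

/-- **Frame's theorem with known eigenvalues** -/
theorem frame_exact [Finite G] (h : R3 G X R k l) {x₀ y₀ : X} (hxy : x₀ ≠ y₀) (hR : ¬ R x₀ y₀) {b : ℕ}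
    (hb : com R x₀ y₀ = b) {r s : ℤ} (hrs : r ≠ s) (h2 : r * s = b - k)
    (h1 : (k : ℤ) * (r + s + b) = k * k - k - l * b) :
    ∃ (χ₁ χ₂ : IrrCharacter G) (f g : ℕ), (χ₁ : G → ℂ) 1 = f ∧ (χ₂ : G → ℂ) 1 = g ∧
      (f : ℤ) * (r - s) = -(s * (k + l) + k) ∧ (g : ℤ) * (r - s) = r * (k + l) + k ∧
      (∀ x : G, (Nat.card (MulAction.fixedBy X x) : ℂ) = 1 + (χ₁ : G → ℂ) x + (χ₂ : G → ℂ) x) ∧
      ∀ x : G, (∀ y : X, x • y = y) → (χ₁ : G → ℂ) x = f ∧ (χ₂ : G → ℂ) x = g := by
  have := Fintype.ofFinite G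
  obtain ⟨a, b', hab⟩ := h.exists_params
  have hp := h.params_eq hab
  have hbb : b' = b := by rw [← hb]; exact (params_b hab hxy hR).symm
  subst hbb
  have hn := h.cardn
  have hk0 : (0 : ℤ) < k := by exact_mod_cast h.k0
  have hpZ : (k : ℤ) * k = k + k * a + l * b' := by exact_mod_cast hp
  have h1' : r + s = a - b' := by
    have h3 : (k : ℤ) * (r + s + b') = k * a := by rw [h1]; linear_combination hpZ
    have h4 := mul_left_cancel₀ hk0.ne' h3
    linear_combination h4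
  obtain ⟨rC, hrC⟩ : ∃ rC : ℂ, rC = (r : ℂ) := ⟨_, rfl⟩
  obtain ⟨sC, hsC⟩ : ∃ sC : ℂ, sC = (s : ℂ) := ⟨_, rfl⟩
  have hne : rC ≠ sC := by rw [hrC, hsC]; exact_mod_cast hrs
  have h1C : rC + sC = a - b' := by rw [hrC, hsC]; exact_mod_cast h1'
  have h2C : rC * sC = b' - k := by rw [hrC, hsC]; exact_mod_cast h2
  obtain ⟨d, hd⟩ : ∃ d : ℂ, d = rC - sC := ⟨_, rfl⟩
  have hd0 : d ≠ 0 := by rw [hd]; exact sub_ne_zero.2 hne
  -- the characters
  have hchar : ∀ u v : ℂ, u ≠ v → u + v = a - b' → u * v = b' - k →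
      IsCharacter G (fun g : G => ∑ x : X, ker R k (Nat.card X) u v x (g • x)) := by
    intro u v huv h3 h4
    exact Cfsg.Agent.H651.isCharacter_sum_perm (MulAction.toPermHom G X) (ker R k (Nat.card X) u v)
      (h.ker_mul hab huv h3 h4) (fun g x y => h.ker_smul _ u v g x y)
  have hc1 := hchar rC sC hne h1C h2C
  have hc2 := hchar sC rC hne.symm (by rw [add_comm]; exact h1C) (by rw [mul_comm]; exact h2C)
  set θ₁ : G → ℂ := fun g : G => ∑ x : X, ker R k (Nat.card X) rC sC x (g • x) with hθ₁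
  set θ₂ : G → ℂ := fun g : G => ∑ x : X, ker R k (Nat.card X) sC rC x (g • x) with hθ₂
  have hnC : (Nat.card X : ℂ) ≠ 0 := by
    have : Nat.card X ≠ 0 := by omega
    exact_mod_cast this
  have hval : ∀ u v : ℂ, ∀ g : G, ∑ x : X, ker R k (Nat.card X) u v x (g • x) =
      (u - v)⁻¹ * (∑ x : X, adj R x (g • x) - v * (Nat.card (MulAction.fixedBy X g) : ℂ) - (k - v)) := by
    intro u v g
    unfold ker
    rw [← Finset.mul_sum, Finset.sum_sub_distrib, Finset.sum_sub_distrib, ← Finset.mul_sum, sum_dia_smul,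
      Finset.sum_const, Finset.card_univ, ← Nat.card_eq_fintype_card, nsmul_eq_mul]
    congr 2
    field_simp
  have hsum : (fun g : G => (Nat.card (MulAction.fixedBy X g) : ℂ) - 1) = θ₁ + θ₂ := by
    funext g
    show _ = θ₁ g + θ₂ g
    rw [hθ₁, hθ₂]
    simp only [hval]
    have h3 : (sC - rC)⁻¹ = -(rC - sC)⁻¹ := by rw [← neg_sub, inv_neg]
    rw [h3]
    have h4 : (rC - sC)⁻¹ * (rC - sC) = 1 := inv_mul_cancel₀ (by rw [← hd]; exact hd0)
    linear_combination (-(Nat.card (MulAction.fixedBy X g) : ℂ) + 1) * h4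
  have hnorm := h.norm_two (G := G)
  rw [hsum, classInner_add_left, classInner_add_right, classInner_add_right] at hnorm
  -- degrees
  have htriv : ∀ g : G, (∀ y : X, g • y = y) → ∑ x : X, adj R x (g • x) = 0 := by
    intro g hg
    refine Finset.sum_eq_zero fun x _ => ?_
    unfold adj
    rw [hg, if_neg (h.irr x)]
  have hfixt : ∀ g : G, (∀ y : X, g • y = y) → Nat.card (MulAction.fixedBy X g) = Nat.card X := by
    intro g hg
    have : MulAction.fixedBy X g = Set.univ := Set.eq_univ_of_forall hg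
    rw [this]
    exact Nat.card_univ
  have hn' : (Nat.card X : ℂ) = 1 + k + l := by exact_mod_cast hn
  have hdeg1 : ∀ g : G, (∀ y : X, g • y = y) → θ₁ g * d = -(sC * (k + l) + k) := by
    intro g hg
    rw [hθ₁]
    simp only [hval]
    rw [htriv g hg, hfixt g hg, hn', ← hd]
    have h4 : d⁻¹ * d = 1 := inv_mul_cancel₀ hd0
    linear_combination (0 - sC * (1 + k + l) - (k - sC)) * h4
  have hdeg2 : ∀ g : G, (∀ y : X, g • y = y) → θ₂ g * d = rC * (k + l) + k := by
    intro g hg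
    rw [hθ₂]
    simp only [hval]
    have h3 : (sC - rC)⁻¹ = -d⁻¹ := by rw [← neg_sub, inv_neg, hd]
    rw [htriv g hg, hfixt g hg, hn', h3]
    have h4 : d⁻¹ * d = 1 := inv_mul_cancel₀ hd0
    linear_combination (0 - (0 - rC * (1 + k + l) - (k - rC))) * h4
  have hone : ∀ y : X, (1 : G) • y = y := fun y => one_smul G y
  obtain ⟨f, hf⟩ := isCharacter_apply_one hc1
  obtain ⟨g, hg⟩ := isCharacter_apply_one hc2
  have hpC : (k : ℂ) * k = k + k * a + l * b' := by exact_mod_cast hp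
  have hprod : (f : ℂ) * g * (d * d) = (1 + k + l) * k * l := by
    rw [← hf, ← hg]
    have h5 : θ₁ 1 * θ₂ 1 * (d * d) = (θ₁ 1 * d) * (θ₂ 1 * d) := by ring
    rw [h5, hdeg1 1 hone, hdeg2 1 hone]
    linear_combination (-(k + l : ℂ) ^ 2) * h2C - (k : ℂ) * (k + l) * h1C + (k + l : ℂ) * hpC
  have hprod0 : ((1 + k + l) * k * l : ℂ) ≠ 0 := by
    have h3 : 0 < (1 + k + l) * k * l := by
      have := h.k0
      have := h.l0
      positivity
    exact_mod_cast h3.ne'
  have hf0 : f ≠ 0 := by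
    rintro rfl
    apply hprod0
    rw [← hprod]
    push_cast
    ring
  have hg0 : g ≠ 0 := by
    rintro rfl
    apply hprod0
    rw [← hprod]
    push_cast
    ring
  -- norms
  obtain ⟨m11, hm11⟩ := classInner_isNat hc1 hc1
  obtain ⟨m12, hm12⟩ := classInner_isNat hc1 hc2
  obtain ⟨m21, hm21⟩ := classInner_isNat hc2 hc1
  obtain ⟨m22, hm22⟩ := classInner_isNat hc2 hc2
  rw [hm11, hm12, hm21, hm22] at hnorm
  have hnormN : m11 + m12 + (m21 + m22) = 2 := by exact_mod_cast hnorm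
  have h11 : m11 ≠ 0 := by
    rintro rfl
    have h3 := classInner_self_eq_zero (φ := θ₁) (by rw [hm11]; simp)
    rw [h3] at hf
    apply hf0
    have : (f : ℂ) = 0 := by rw [← hf]; rfl
    exact_mod_cast this
  have h22 : m22 ≠ 0 := by
    rintro rfl
    have h3 := classInner_self_eq_zero (φ := θ₂) (by rw [hm22]; simp)
    rw [h3] at hg
    apply hg0
    have : (g : ℂ) = 0 := by rw [← hg]; rfl
    exact_mod_cast this
  have hm1 : m11 = 1 := by omega
  have hm2 : m22 = 1 := by omega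
  have hi1 : IsIrrCharacter G θ₁ := isIrr_of_classInner_self hc1 (by rw [hm11, hm1]; simp)
  have hi2 : IsIrrCharacter G θ₂ := isIrr_of_classInner_self hc2 (by rw [hm22, hm2]; simp)
  have hdZ : d = ((r - s : ℤ) : ℂ) := by rw [hd, hrC, hsC]; push_cast; ring
  refine ⟨⟨θ₁, hi1⟩, ⟨θ₂, hi2⟩, f, g, hf, hg, ?_, ?_, fun x => ?_, fun x hx => ⟨?_, ?_⟩⟩
  · have h3 := hdeg1 1 hone
    rw [hf, hdZ, hsC] at h3
    exact_mod_cast h3
  · have h3 := hdeg2 1 hone
    rw [hg, hdZ, hrC] at h3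
    exact_mod_cast h3
  · have h3 := congrFun hsum x
    have h4 : (Nat.card (MulAction.fixedBy X x) : ℂ) - 1 = θ₁ x + θ₂ x := h3
    show _ = 1 + θ₁ x + θ₂ x
    linear_combination h4
  · show θ₁ x = f
    rw [← hf]
    exact mul_right_cancel₀ hd0 ((hdeg1 x hx).trans (hdeg1 1 hone).symm)
  · show θ₂ x = g
    rw [← hg]
    exact mul_right_cancel₀ hd0 ((hdeg2 x hx).trans (hdeg2 1 hone).symm)

end

end Cfsg.Agent.H113.PSU.Rank3
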