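import Cfsg.Agent.H113.PSU.Trans
import Cfsg.Agent.H113.PSU.Rank3
import Cfsg.Agent.H77.Geom
import Cfsg.Agent.H477.HC.ModelB
import Cfsg.Agent.S0285

/-!
# `SU_n(q)`, `n ≥ 4`, has rank 3 on the isotropic points (helper113)

`Pt n F q` : the isotropic points; `r3` : rank 3 with subdegrees `1, k, l`; the counts `(q² - 1) k = q² (N - 1)`,
`l = q^(2n-3)`, `(q² - 1) b = N - 1`, `N` the number of isotropic vectors of `F^(n-2)`.
-/

set_option autoImplicit false
set_option linter.unusedSectionVars false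

namespace Cfsg.Agent.H113.PSU.Points

open Cfsg Cfsg.Agent.LieClassical.HermBasic Cfsg.Agent.LieClassical.HermSiegel
open Cfsg.Agent.H690.Spor.RankThree Cfsg.Agent.H690.Spor.RankThree.R3

universe u

variable {F : Type u} [Field F] [Fintype F] {q n : ℕ}

/-- the isotropic points -/
def Pt (n : ℕ) (F : Type u) [Field F] (q : ℕ) : Type u :=
  {W : Submodule F (Fin n → F) // ∃ v, v ≠ 0 ∧ hermForm n F q v v = 0 ∧ W = Submodule.span F {v}}

/-- the linear map of an element -/
def lin (g : SU n F q) : (Fin n → F) →ₗ[F] (Fin n → F) where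
  toFun := act g
  map_add' := act_add g
  map_smul' := act_smul g

/-- the point of a vector -/
def pt (v : Fin n → F) (h0 : v ≠ 0) (h : hermForm n F q v v = 0) : Pt n F q := ⟨Submodule.span F {v}, v, h0, h, rfl⟩

theorem exists_pt (x : Pt n F q) : ∃ (v : Fin n → F) (h0 : v ≠ 0) (h : hermForm n F q v v = 0), x = pt v h0 h := by
  obtain ⟨W, v, h0, h, rfl⟩ := x
  exact ⟨v, h0, h, rfl⟩

instance ptAction : MulAction (SU n F q) (Pt n F q) where
  smul g x := ⟨x.1.map (lin g), by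
    obtain ⟨v, h0, h, hv⟩ := x.2
    refine ⟨act g v, fun h1 => h0 ((act_eq_zero g).1 h1), by rw [herm_act, h], ?_⟩
    rw [hv, Submodule.map_span, Set.image_singleton]
    rfl⟩
  one_smul x := by
    apply Subtype.ext
    change x.1.map (lin 1) = x.1
    have : lin (1 : SU n F q) = LinearMap.id := LinearMap.ext fun v => act_one v
    rw [this, Submodule.map_id]
  mul_smul g h x := by
    apply Subtype.ext
    change x.1.map (lin (g * h)) = (x.1.map (lin h)).map (lin g)
    have : lin (g * h) = (lin g).comp (lin h) := LinearMap.ext fun v => act_mul g h v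
    rw [this, Submodule.map_comp]

theorem smul_val (g : SU n F q) (x : Pt n F q) : (g • x).1 = x.1.map (lin g) := rfl

theorem smul_pt (g : SU n F q) {v : Fin n → F} (h0 : v ≠ 0) (h : hermForm n F q v v = 0) :
    g • pt v h0 h = pt (act g v) (fun h1 => h0 ((act_eq_zero g).1 h1)) (by rw [herm_act, h]) := by
  apply Subtype.ext
  rw [smul_val]
  change (Submodule.span F {v}).map (lin g) = Submodule.span F {act g v}
  rw [Submodule.map_span, Set.image_singleton]
  rfl

theorem pt_eq_iff {v w : Fin n → F} {h0 : v ≠ 0} {h : hermForm n F q v v = 0} {h0' : w ≠ 0}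
    {h' : hermForm n F q w w = 0} : pt v h0 h = pt w h0' h' ↔ ∃ c : F, c ≠ 0 ∧ v = c • w := by
  constructor
  · intro he
    have h1 : v ∈ Submodule.span F {w} := by
      rw [← show Submodule.span F {v} = Submodule.span F {w} from congrArg Subtype.val he]
      exact Submodule.mem_span_singleton_self v
    obtain ⟨c, hc⟩ := Submodule.mem_span_singleton.1 h1
    refine ⟨c, ?_, hc.symm⟩
    rintro rfl
    rw [zero_smul] at hc
    exact h0 hc.symm
  · rintro ⟨c, hc, rfl⟩
    apply Subtype.ext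
    exact Submodule.span_singleton_smul_eq (IsUnit.mk0 c hc) w

/-- perpendicular and distinct -/
def Rel (x y : Pt n F q) : Prop := x ≠ y ∧ ∀ u ∈ x.1, ∀ v ∈ y.1, hermForm n F q u v = 0

theorem perp_iff (hF : Fintype.card F = q ^ 2) {v w : Fin n → F} {h0 : v ≠ 0} {h : hermForm n F q v v = 0}
    {h0' : w ≠ 0} {h' : hermForm n F q w w = 0} :
    (∀ a ∈ (pt v h0 h).1, ∀ b ∈ (pt w h0' h').1, hermForm n F q a b = 0) ↔ hermForm n F q v w = 0 := by
  constructor
  · intro hr
    exact hr v (Submodule.mem_span_singleton_self v) w (Submodule.mem_span_singleton_self w)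
  · intro hr a ha b hb
    obtain ⟨c, rfl⟩ := Submodule.mem_span_singleton.1 ha
    obtain ⟨d, rfl⟩ := Submodule.mem_span_singleton.1 hb
    rw [herm_smul_left, herm_smul_right, hr, mul_zero, mul_zero]

theorem rel_iff (hF : Fintype.card F = q ^ 2) {v w : Fin n → F} {h0 : v ≠ 0} {h : hermForm n F q v v = 0}
    {h0' : w ≠ 0} {h' : hermForm n F q w w = 0} :
    Rel (pt v h0 h) (pt w h0' h') ↔ (¬ ∃ c : F, c ≠ 0 ∧ v = c • w) ∧ hermForm n F q v w = 0 := by
  unfold Rel
  rw [perp_iff hF, Ne, pt_eq_iff]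

/-- two isotropic perpendicular independent vectors belong to a frame -/
theorem exists_frame (hF : Fintype.card F = q ^ 2) {v w : Fin n → F} (h0 : v ≠ 0) (h : hermForm n F q v v = 0)
    (h0' : w ≠ 0) (h' : hermForm n F q w w = 0) (hne : ¬ ∃ c : F, c ≠ 0 ∧ v = c • w)
    (hvw : hermForm n F q v w = 0) :
    ∃ e f : ℕ → Fin n → F, e 0 = v ∧ e 1 = w ∧ Trans.Fl q 2 e f := by
  have hwv : hermForm n F q w v = 0 := herm_eq_zero_swap hF hvw
  have h1 : v ∉ Submodule.span F ({w} : Set (Fin n → F)) := by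
    intro hm
    obtain ⟨c, hc⟩ := Submodule.mem_span_singleton.1 hm
    refine hne ⟨c, ?_, hc.symm⟩
    rintro rfl
    rw [zero_smul] at hc
    exact h0 hc.symm
  obtain ⟨f0, hf0, hf0', hvf⟩ := Cfsg.Agent.H77.Geom.exists_partner hF (S := {w}) h
    (by rw [Cfsg.Agent.H77.Geom.mem_perp_singleton]; exact hvw) h1
  rw [Cfsg.Agent.H77.Geom.mem_perp_singleton] at hf0
  have hwf : hermForm n F q w f0 = 0 := herm_eq_zero_swap hF hf0
  have hfv : hermForm n F q f0 v = 1 := Trans.o_swap hF hvf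
  have h2 : w ∉ Submodule.span F ({v, f0} : Set (Fin n → F)) := by
    intro hm
    obtain ⟨a, b, hab⟩ := Submodule.mem_span_pair.1 hm
    have h3 : hermForm n F q (a • v + b • f0) v = b := by
      rw [herm_add_left, herm_smul_left, herm_smul_left, h, hfv]
      ring
    rw [hab, hwv] at h3
    rw [← h3, zero_smul, add_zero] at hab
    have ha : a ≠ 0 := by
      rintro rfl
      rw [zero_smul] at hab
      exact h0' hab.symm
    refine hne ⟨a⁻¹, inv_ne_zero ha, ?_⟩
    rw [← hab, smul_smul, inv_mul_cancel₀ ha, one_smul]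
  obtain ⟨f1, hf1, hf1', hwf1⟩ := Cfsg.Agent.H77.Geom.exists_partner hF (S := {v, f0}) h'
    (by rw [Cfsg.Agent.H77.Geom.mem_perp_pair]; exact ⟨hwv, hwf⟩) h2
  rw [Cfsg.Agent.H77.Geom.mem_perp_pair] at hf1
  have hvf1 : hermForm n F q v f1 = 0 := herm_eq_zero_swap hF hf1.1
  have hf01 : hermForm n F q f0 f1 = 0 := herm_eq_zero_swap hF hf1.2
  refine ⟨fun i => if i = 0 then v else w, fun i => if i = 0 then f0 else f1, by simp, by simp, ?_, ?_, ?_⟩
  · intro i hi j hj
    interval_cases i <;> interval_cases j <;> simp [h, h', hvw, hwv]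
  · intro i hi j hj
    interval_cases i <;> interval_cases j <;> simp [hf0', hf1', hf01, hf1.2]
  · intro i hi j hj
    interval_cases i <;> interval_cases j <;> simp [hvf, hwf, hvf1, hwf1]

/-- a hyperbolic partner -/
theorem exists_hyp (hF : Fintype.card F = q ^ 2) {v : Fin n → F} (h0 : v ≠ 0) (h : hermForm n F q v v = 0) :
    ∃ f, hermForm n F q f f = 0 ∧ hermForm n F q v f = 1 := by
  obtain ⟨f, -, hf, hvf⟩ := Cfsg.Agent.H77.Geom.exists_partner hF (S := (∅ : Set (Fin n → F))) h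
    (by intro s hs; exact absurd hs (Set.notMem_empty s)) (by
      rw [Submodule.span_empty, Submodule.mem_bot]; exact h0)
  exact ⟨f, hf, hvf⟩

theorem ne_zero_of_herm (hF : Fintype.card F = q ^ 2) {v f : Fin n → F} (h : hermForm n F q v f = 1) : f ≠ 0 := by
  rintro rfl
  rw [herm_zero_right hF] at h
  exact zero_ne_one h

/-- transitive on the non-perpendicular pairs -/
theorem trans_opp (hF : Fintype.card F = q ^ 2) {x y x' y' : Pt n F q}
    (hxy : ¬ ∀ u ∈ x.1, ∀ v ∈ y.1, hermForm n F q u v = 0)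
    (hxy' : ¬ ∀ u ∈ x'.1, ∀ v ∈ y'.1, hermForm n F q u v = 0) :
    ∃ g : SU n F q, g • x = x' ∧ g • y = y' := by
  have key : ∀ {x y : Pt n F q}, (¬ ∀ u ∈ x.1, ∀ v ∈ y.1, hermForm n F q u v = 0) →
      ∃ (v w : Fin n → F) (h0 : v ≠ 0) (h : hermForm n F q v v = 0) (h0' : w ≠ 0) (h' : hermForm n F q w w = 0),
        x = pt v h0 h ∧ y = pt w h0' h' ∧ hermForm n F q v w = 1 := by
    intro x y hxy
    obtain ⟨v, h0, h, rfl⟩ := exists_pt x
    obtain ⟨w, h0', h', rfl⟩ := exists_pt y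
    rw [perp_iff hF] at hxy
    obtain ⟨d, hd⟩ : ∃ d : F, d = ((hermForm n F q v w) ^ q)⁻¹ := ⟨_, rfl⟩
    have hd0 : d ≠ 0 := by
      rw [hd]; exact inv_ne_zero fun h1 => hxy ((pow_q_eq_zero hF).1 h1)
    refine ⟨v, d • w, h0, h, smul_ne_zero hd0 h0', by rw [herm_smul_left, herm_smul_right, h']; ring, rfl, ?_, ?_⟩
    · rw [pt_eq_iff]
      exact ⟨d⁻¹, inv_ne_zero hd0, by rw [smul_smul, inv_mul_cancel₀ hd0, one_smul]⟩
    · rw [herm_smul_right, hd, inv_pow, pow_q_pow_q hF, inv_mul_cancel₀ hxy]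
  obtain ⟨v, w, h0, h, h0', h', rfl, rfl, hvw⟩ := key hxy
  obtain ⟨v', w', k0, k, k0', k', rfl, rfl, hvw'⟩ := key hxy'
  obtain ⟨g, c, d, hc, hd, hg, hg', -⟩ := Trans.move2 hF (S := (∅ : Set (Fin n → F))) h h' hvw k k' hvw'
    (fun s hs => absurd hs (Set.notMem_empty s)) (fun s hs => absurd hs (Set.notMem_empty s))
    (fun s hs => absurd hs (Set.notMem_empty s)) (fun s hs => absurd hs (Set.notMem_empty s))
  refine ⟨g, ?_, ?_⟩
  · rw [smul_pt, pt_eq_iff]
    exact ⟨c, hc, hg⟩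
  · rw [smul_pt, pt_eq_iff]
    exact ⟨d, hd, hg'⟩

/-- transitive on the perpendicular pairs -/
theorem trans_rel (hF : Fintype.card F = q ^ 2) {x y x' y' : Pt n F q} (hxy : Rel x y) (hxy' : Rel x' y') :
    ∃ g : SU n F q, g • x = x' ∧ g • y = y' := by
  obtain ⟨v, h0, h, rfl⟩ := exists_pt x
  obtain ⟨w, h0', h', rfl⟩ := exists_pt y
  obtain ⟨v', k0, k, rfl⟩ := exists_pt x'
  obtain ⟨w', k0', k', rfl⟩ := exists_pt y'
  rw [rel_iff hF] at hxy hxy'
  obtain ⟨e, f, he0, he1, hef⟩ := exists_frame hF h0 h h0' h' hxy.1 hxy.2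
  obtain ⟨e', f', he0', he1', hef'⟩ := exists_frame hF k0 k k0' k' hxy'.1 hxy'.2
  obtain ⟨g, hg⟩ := Trans.trans_points hF 2 hef hef'
  obtain ⟨⟨c, hc, hc'⟩, -⟩ := hg 0 (by omega)
  obtain ⟨⟨d, hd, hd'⟩, -⟩ := hg 1 (by omega)
  rw [he0, he0'] at hc'
  rw [he1, he1'] at hd'
  refine ⟨g, ?_, ?_⟩
  · rw [smul_pt, pt_eq_iff]
    exact ⟨c, hc, hc'⟩
  · rw [smul_pt, pt_eq_iff]
    exact ⟨d, hd, hd'⟩

/-- transitivity -/
theorem trans_pt (hF : Fintype.card F = q ^ 2) (x x' : Pt n F q) : ∃ g : SU n F q, g • x = x' := by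
  have key : ∀ x : Pt n F q, ∃ y : Pt n F q, ¬ ∀ u ∈ x.1, ∀ v ∈ y.1, hermForm n F q u v = 0 := by
    intro x
    obtain ⟨v, h0, h, rfl⟩ := exists_pt x
    obtain ⟨f, hf, hvf⟩ := exists_hyp hF h0 h
    refine ⟨pt f (ne_zero_of_herm hF hvf) hf, ?_⟩
    rw [perp_iff hF, hvf]
    exact one_ne_zero
  obtain ⟨y, hy⟩ := key x
  obtain ⟨y', hy'⟩ := key x'
  obtain ⟨g, hg, -⟩ := trans_opp hF hy hy'
  exact ⟨g, hg⟩

instance finite_Pt : Finite (Pt n F q) := by
  have : Finite (Submodule F (Fin n → F)) :=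
    Finite.of_injective (fun W : Submodule F (Fin n → F) => (W : Set (Fin n → F))) SetLike.coe_injective
  exact Subtype.finite

/-- **counting points** -/
theorem card_pts (hF : Fintype.card F = q ^ 2) (P : (Fin n → F) → Prop) (hP : ∀ (c : F), c ≠ 0 → ∀ v, P v → P (c • v)) :
    (q ^ 2 - 1) * Nat.card {x : Pt n F q // ∀ v ∈ x.1, v ≠ 0 → P v} =
      Nat.card {v : Fin n → F // v ≠ 0 ∧ hermForm n F q v v = 0 ∧ P v} := by
  classical
  have hrep : ∀ x : Pt n F q, ∃ v, v ≠ 0 ∧ hermForm n F q v v = 0 ∧ x.1 = Submodule.span F {v} := fun x => x.2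
  choose r hr0 hr hrs using hrep
  have hmem : ∀ x : Pt n F q, r x ∈ x.1 := fun x => by rw [hrs]; exact Submodule.mem_span_singleton_self _
  let φ : Fˣ × {x : Pt n F q // ∀ v ∈ x.1, v ≠ 0 → P v} →
      {v : Fin n → F // v ≠ 0 ∧ hermForm n F q v v = 0 ∧ P v} := fun p =>
    ⟨(p.1 : F) • r p.2.1, smul_ne_zero p.1.ne_zero (hr0 _), by
      rw [herm_smul_left, herm_smul_right, hr, mul_zero, mul_zero],
      hP _ p.1.ne_zero _ (p.2.2 _ (hmem _) (hr0 _))⟩
  have hφ : Function.Bijective φ := by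
    constructor
    · rintro ⟨c, x⟩ ⟨d, y⟩ hcd
      have h1 : (c : F) • r x.1 = (d : F) • r y.1 := congrArg Subtype.val hcd
      have h2 : x = y := by
        apply Subtype.ext
        apply Subtype.ext
        rw [hrs x.1, hrs y.1, ← Submodule.span_singleton_smul_eq c.isUnit (r x.1),
          ← Submodule.span_singleton_smul_eq d.isUnit (r y.1), h1]
      subst h2
      have h3 : ((c : F) - d) • r x.1 = 0 := by rw [sub_smul, h1, sub_self]
      have h4 : (c : F) = d := by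
        rcases smul_eq_zero.1 h3 with h5 | h5
        · exact sub_eq_zero.1 h5
        · exact absurd h5 (hr0 _)
      rw [Units.ext h4]
    · rintro ⟨v, h0, h, hv⟩
      have h1 : v ∈ (pt v h0 h : Pt n F q).1 := Submodule.mem_span_singleton_self v
      have h2 : ∀ w ∈ (pt v h0 h : Pt n F q).1, w ≠ 0 → P w := by
        intro w hw hw0
        obtain ⟨c, rfl⟩ := Submodule.mem_span_singleton.1 hw
        exact hP c (by rintro rfl; exact hw0 (zero_smul _ _)) v hv
      rw [hrs] at h1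
      obtain ⟨c, hc⟩ := Submodule.mem_span_singleton.1 h1
      have hc0 : c ≠ 0 := by
        rintro rfl
        rw [zero_smul] at hc
        exact h0 hc.symm
      exact ⟨(Units.mk0 c hc0, ⟨pt v h0 h, h2⟩), Subtype.ext hc⟩
  rw [← Nat.card_congr (Equiv.ofBijective φ hφ), Nat.card_prod, Nat.card_units, Nat.card_eq_fintype_card (α := F), hF]

end Cfsg.Agent.H113.PSU.Points
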